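import Mathlib
import Groth.Agent.Hensel.FibreProd
import Groth.Agent.UnibranchEtale.Ring
import Groth.Agent.UnibranchEtale.NbhdScheme
import Groth.Agent.UnibranchEtale.BirationalScheme
import Groth.Agent.ConsUnibranch.Main
import Groth.Agent.S2135

/-!
Geometrically unibranch schemes and connectedness of punctured strict henselisations.
-/

set_option autoImplicit false
set_option linter.style.haveILetI false

universe u

open CategoryTheory AlgebraicGeometry IsLocalRing Topology

namespace Groth.Agent.PunctBranch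

variable {A : Type u} [CommRing A] [IsLocalRing A]

/-- Two minimal primes of a strict henselisation do not meet over a geometrically unibranch prime. -/
theorem eq_of_gu_under {S : Type u} [CommRing S] [IsLocalRing S] [Algebra A S]
    [IsLocalHom (algebraMap A S)] [_root_.Hensel.IsStrictHenselization A S]
    (q : Ideal S) [q.IsPrime]
    (hp : CAlg2.IsGeomUnibranch (Localization.AtPrime (q.comap (algebraMap A S))))
    {Q₁ Q₂ : Ideal S} (h₁ : Q₁ ∈ minimalPrimes S) (h₂ : Q₂ ∈ minimalPrimes S)
    (l₁ : Q₁ ≤ q) (l₂ : Q₂ ≤ q) : Q₁ = Q₂ := by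
  haveI : Module.Flat A S := Hensel.strictHenselization_flat A S
  suffices key : ∀ P₁ P₂ : Ideal S, P₁ ∈ minimalPrimes S → P₂ ∈ minimalPrimes S → P₁ ≤ q → P₂ ≤ q →
      P₁ ≤ P₂ from le_antisymm (key _ _ h₁ h₂ l₁ l₂) (key _ _ h₂ h₁ l₂ l₁)
  intro P₁ P₂ m₁ m₂ k₁ k₂ z hz
  haveI := m₁.1.1
  haveI := m₂.1.1
  obtain ⟨E, _, _, hE, φ, x, t, ht, hzx⟩ := Hensel.strictHenselization_hasEtaleStages A S z
  have hcA : ∀ P : Ideal S, (P.comap φ.toRingHom).comap (algebraMap A E) = P.comap (algebraMap A S) := by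
    intro P
    rw [Ideal.comap_comap]
    exact congrArg (fun g => Ideal.comap g P) φ.comp_algebraMap
  have hcmin : ∀ P ∈ minimalPrimes S, P.comap φ.toRingHom ∈ minimalPrimes E := by
    intro P hP
    haveI := hP.1.1
    refine ⟨⟨inferInstance, bot_le⟩, fun J hJ hle => ?_⟩
    haveI := hJ.1
    have hmin : P.comap (algebraMap A S) ∈ minimalPrimes A := by
      refine ⟨⟨inferInstance, bot_le⟩, fun J' hJ' hle' => ?_⟩
      haveI := hJ'.1
      rcases eq_or_lt_of_le hle' with h | h
      · exact h.ge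
      · haveI : P.LiesOver (P.comap (algebraMap A S)) := ⟨rfl⟩
        obtain ⟨T, hT, hTp, -⟩ := Ideal.exists_ideal_lt_liesOver_of_lt P h
        exact absurd (hP.2 ⟨hTp, bot_le⟩ hT.le) hT.not_ge
    have hJP : J.comap (algebraMap A E) = (P.comap φ.toRingHom).comap (algebraMap A E) := by
      refine le_antisymm (Ideal.comap_mono hle) ?_
      rw [hcA]
      exact hmin.2 ⟨inferInstance, bot_le⟩ ((Ideal.comap_mono hle).trans (hcA P).le)
    exact (Algebra.QuasiFinite.eq_of_le_of_under_eq (R := A) J (P.comap φ.toRingHom) hle hJP).ge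
  set qE := q.comap φ.toRingHom with hqE
  haveI : qE.LiesOver (q.comap (algebraMap A S)) := ⟨(hcA q).symm⟩
  have hgu := UnibranchEtale.isGeomUnibranch_atPrime_of_etale (q.comap (algebraMap A S)) qE hp
  haveI hnp : (nilradical (Localization.AtPrime qE)).IsPrime :=
    (Ideal.Quotient.isDomain_iff_prime _).1 hgu.1.1
  have huniq : ∀ P ∈ minimalPrimes S, P ≤ q →
      P.comap φ.toRingHom = (nilradical (Localization.AtPrime qE)).comap (algebraMap E _) := by
    intro P hP hPq
    have hmem := hcmin P hP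
    haveI := hmem.1.1
    have hdisj : Disjoint (qE.primeCompl : Set E) (P.comap φ.toRingHom : Set E) :=
      Set.disjoint_left.2 fun w hw hwP => hw (Ideal.comap_mono hPq hwP)
    haveI := IsLocalization.isPrime_of_isPrime_disjoint qE.primeCompl (Localization.AtPrime qE)
      (P.comap φ.toRingHom) ‹_› hdisj
    have hle : (nilradical (Localization.AtPrime qE)).comap (algebraMap E _) ≤ P.comap φ.toRingHom := by
      refine (Ideal.comap_mono (nilradical_le_prime
        ((P.comap φ.toRingHom).map (algebraMap E (Localization.AtPrime qE))))).trans ?_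
      exact (IsLocalization.under_map_of_isPrime_disjoint qE.primeCompl (Localization.AtPrime qE)
        ‹_› hdisj).le
    exact le_antisymm (hmem.2 ⟨inferInstance, bot_le⟩ hle) hle
  have hx : x ∈ P₁.comap φ.toRingHom := by
    rw [Ideal.mem_comap]
    change φ x ∈ P₁
    rw [← hzx]
    exact P₁.mul_mem_right _ hz
  rw [huniq P₁ m₁ k₁, ← huniq P₂ m₂ k₂, Ideal.mem_comap] at hx
  change φ x ∈ P₂ at hx
  rw [← hzx] at hx
  exact (Ideal.mul_unit_mem_iff_mem _ ht).1 hx

/-- The punctured spectrum is connected when the ring is geometrically unibranch. -/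
theorem connected_of_gu (hA : CAlg2.IsGeomUnibranch A) {p : Ideal A} [p.IsPrime]
    (hp : p ≠ maximalIdeal A) (S : Type u) [CommRing S] [IsLocalRing S] [Algebra A S]
    [IsLocalHom (algebraMap A S)] [_root_.Hensel.IsStrictHenselization A S] :
    ConnectedSpace ↥({closedPoint S}ᶜ : Set (PrimeSpectrum S)) := by
  obtain ⟨N, hN, huniq⟩ := (S2135.result (A := A) (Ash := S)).1 hA
  haveI := Hensel.strictHenselization_faithfullyFlat A S
  haveI := hN.1.1
  obtain ⟨q, hq⟩ := PrimeSpectrum.comap_surjective_of_faithfullyFlat (A := A) (B := S) ⟨p, inferInstance⟩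
  have hgen : ∀ r : PrimeSpectrum S, N ≤ r.asIdeal := fun r => by
    obtain ⟨M, hM, hle⟩ := Ideal.exists_minimalPrimes_le (bot_le : (⊥ : Ideal S) ≤ r.asIdeal)
    exact huniq M hM ▸ hle
  have hqm : q ≠ closedPoint S := by
    rintro rfl
    exact hp (((congrArg PrimeSpectrum.asIdeal hq).symm.trans
      (((local_hom_TFAE (algebraMap A S)).out 0 4 rfl rfl).1 inferInstance)))
  set N' : PrimeSpectrum S := ⟨N, inferInstance⟩
  have hN' : N' ∈ ({closedPoint S}ᶜ : Set (PrimeSpectrum S)) := fun h => hqm (PrimeSpectrum.ext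
    (le_antisymm (le_maximalIdeal q.isPrime.ne_top) ((congrArg PrimeSpectrum.asIdeal h).ge.trans (hgen q))))
  refine isConnected_iff_connectedSpace.1 (isConnected_singleton.subset_closure (s := {N'})
    (Set.singleton_subset_iff.2 hN') fun r _ => ?_)
  exact ((PrimeSpectrum.le_iff_specializes N' r).1 (hgen r)).mem_closure

/-- A local ring is geometrically unibranch if its generisations are and a punctured spectrum is connected. -/
theorem gu_of_connected [IsNoetherianRing A]
    (hloc : ∀ p : Ideal A, [p.IsPrime] → p ≠ maximalIdeal A → CAlg2.IsGeomUnibranch (Localization.AtPrime p))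
    (S : Type u) [CommRing S] [IsLocalRing S] [Algebra A S]
    [IsLocalHom (algebraMap A S)] [_root_.Hensel.IsStrictHenselization A S]
    (hconn : (∃ p : Ideal A, p.IsPrime ∧ p ≠ maximalIdeal A) →
      ConnectedSpace ↥({closedPoint S}ᶜ : Set (PrimeSpectrum S))) :
    CAlg2.IsGeomUnibranch A := by
  classical
  refine (S2135.result (A := A) (Ash := S)).2 ?_
  haveI : IsNoetherianRing S := (Hensel.strictHenselization_isNoetherianRing_iff A S).1 inferInstance
  have hover : ∀ q : Ideal S, q.IsPrime → q.comap (algebraMap A S) = maximalIdeal A → q = maximalIdeal S := by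
    intro q hq h
    refine le_antisymm (le_maximalIdeal hq.ne_top) ?_
    rw [← Hensel.strictHenselization_map_maximalIdeal A S, Ideal.map_le_iff_le_comap, h]
  obtain ⟨Q₁, hQ₁⟩ := Ideal.nonempty_minimalPrimes (I := (⊥ : Ideal S)) bot_ne_top
  refine ⟨Q₁, hQ₁, fun Q₂ hQ₂ => ?_⟩
  by_contra hne
  haveI := hQ₁.1.1
  haveI := hQ₂.1.1
  have hQm : ∀ Q ∈ minimalPrimes S, ∀ Q' ∈ minimalPrimes S, Q ≠ Q' → Q ≠ maximalIdeal S := by
    intro Q hQ Q' hQ' h e
    subst e
    haveI := hQ'.1.1
    exact h (le_antisymm (hQ.2 hQ'.1 (le_maximalIdeal hQ'.1.1.ne_top)) (le_maximalIdeal hQ'.1.1.ne_top))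
  have hq1 := hQm Q₁ hQ₁ Q₂ hQ₂ (Ne.symm hne)
  have hq2 := hQm Q₂ hQ₂ Q₁ hQ₁ hne
  haveI := hconn ⟨Q₁.comap (algebraMap A S), inferInstance, fun h => hq1 (hover Q₁ inferInstance h)⟩
  set s : Set (PrimeSpectrum S) := {closedPoint S}ᶜ
  have hs : _root_.IsPreconnected s := (isConnected_iff_connectedSpace.2 ‹_›).isPreconnected
  set T : Set (Ideal S) := minimalPrimes S \ {Q₁}
  have hT : T.Finite := (minimalPrimes.finite_of_isNoetherianRing S).subset Set.sdiff_subset
  obtain ⟨q, hq, hq₁, hqT⟩ := (isPreconnected_closed_iff.1 hs) (PrimeSpectrum.zeroLocus (Q₁ : Set S))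
    (⋃ Q ∈ T, PrimeSpectrum.zeroLocus (Q : Set S)) (PrimeSpectrum.isClosed_zeroLocus _)
    (hT.isClosed_biUnion fun Q _ => PrimeSpectrum.isClosed_zeroLocus _)
    (fun r _ => by
      obtain ⟨M, hM, hle⟩ := Ideal.exists_minimalPrimes_le (bot_le : (⊥ : Ideal S) ≤ r.asIdeal)
      by_cases h : M = Q₁
      · exact Or.inl (h ▸ hle)
      · exact Or.inr (Set.mem_iUnion₂.2 ⟨M, ⟨hM, h⟩, hle⟩))
    ⟨⟨Q₁, inferInstance⟩, Set.mem_compl_singleton_iff.2 fun h => hq1 (congrArg PrimeSpectrum.asIdeal h),
      (subset_refl (Q₁ : Set S) :)⟩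
    ⟨⟨Q₂, inferInstance⟩, Set.mem_compl_singleton_iff.2 fun h => hq2 (congrArg PrimeSpectrum.asIdeal h),
      Set.mem_iUnion₂.2 ⟨Q₂, ⟨hQ₂, hne⟩, (subset_refl (Q₂ : Set S) :)⟩⟩
  obtain ⟨Q, hQ, hqQ⟩ := Set.mem_iUnion₂.1 hqT
  have hqp : q.asIdeal.comap (algebraMap A S) ≠ maximalIdeal A := fun h =>
    hq (PrimeSpectrum.ext (hover _ q.isPrime h))
  exact hQ.2 (eq_of_gu_under q.asIdeal (hloc _ hqp) hQ.1 hQ₁ hqQ hq₁)

section Scheme

variable {X : Scheme.{u}}

theorem eq_of_comap_eq {R : Type u} [CommRing R] (P : Ideal R) [P.IsPrime] (L : Type u) [CommRing L]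
    [Algebra R L] [IsLocalization.AtPrime L P] [IsLocalRing L] (p : Ideal L) [p.IsPrime]
    (h : p.comap (algebraMap R L) = P) : p = maximalIdeal L := by
  rw [← IsLocalization.map_under P.primeCompl L p, ← IsLocalization.map_under P.primeCompl L (maximalIdeal L),
    Ideal.under_def, h, IsLocalization.AtPrime.under_maximalIdeal L P]

theorem gu_atPrime_congr {R : Type u} [CommRing R] {P P' : Ideal R} [P.IsPrime] [P'.IsPrime]
    (h : P = P') (hgu : CAlg2.IsGeomUnibranch (Localization.AtPrime P)) :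
    CAlg2.IsGeomUnibranch (Localization.AtPrime P') := by
  subst h
  exact hgu

theorem isGeomUnibranch_iff_connected (X : Scheme.{u}) [IsLocallyNoetherian X] :
    (∀ x : X, CAlg2.IsGeomUnibranch (X.presheaf.stalk x)) ↔
      ∀ (x : X), closure ({x} : Set X) ∉ irreducibleComponents X →
        ∀ (Ash : Type u) [CommRing Ash] [IsLocalRing Ash] [Algebra (X.presheaf.stalk x) Ash]
          [IsLocalHom (algebraMap (X.presheaf.stalk x) Ash)]
          [Hensel.IsStrictHenselization (X.presheaf.stalk x) Ash],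
          ConnectedSpace ↥({IsLocalRing.closedPoint Ash}ᶜ : Set (PrimeSpectrum Ash)) := by
  constructor
  · intro h x hx Ash _ _ _ _ _
    obtain ⟨U, hU, hxU, -⟩ := exists_isAffineOpen_mem_and_subset (U := ⊤) (x := x) trivial
    letI := TopCat.Presheaf.algebra_section_stalk X.presheaf (⟨x, hxU⟩ : U)
    haveI := hU.isLocalization_stalk ⟨x, hxU⟩
    obtain ⟨η, hη, hgen⟩ := UnibranchEtale.exists_maximal_specializes x
    have hηU : η ∈ U := hη.mem_open U.2 hxU
    set P := (hU.primeIdealOf ⟨x, hxU⟩).asIdeal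
    set Q := (hU.primeIdealOf ⟨η, hηU⟩).asIdeal
    have hQP : Q ≤ P := UnibranchEtale.primeIdealOf_le hU hxU hηU hη
    have hdisj : Disjoint (P.primeCompl : Set Γ(X, U)) (Q : Set Γ(X, U)) :=
      Set.disjoint_left.2 fun w hw hwQ => hw (hQP hwQ)
    haveI := IsLocalization.isPrime_of_isPrime_disjoint P.primeCompl (X.presheaf.stalk x) Q inferInstance hdisj
    refine connected_of_gu (h x) (p := Q.map (algebraMap Γ(X, U) (X.presheaf.stalk x))) (fun he => hx ?_) Ash
    have hQ : Q = P := by
      have h1 := IsLocalization.under_map_of_isPrime_disjoint P.primeCompl (X.presheaf.stalk x)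
        (inferInstance : Q.IsPrime) hdisj
      rw [he, IsLocalization.AtPrime.under_maximalIdeal (X.presheaf.stalk x) P] at h1
      exact h1.symm
    rw [← UnibranchEtale.eq_of_primeIdealOf_eq hU hηU hxU hQ]
    exact hgen
  · intro h x
    obtain ⟨U, hU, hxU, -⟩ := exists_isAffineOpen_mem_and_subset (U := ⊤) (x := x) trivial
    haveI : IsNoetherianRing Γ(X, U) := IsLocallyNoetherian.component_noetherian ⟨U, hU⟩
    suffices key : ∀ (n : ℕ∞) (y : X) (hy : y ∈ U), (hU.primeIdealOf ⟨y, hy⟩).asIdeal.height = n →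
        CAlg2.IsGeomUnibranch (X.presheaf.stalk y) from key _ x hxU rfl
    intro n
    induction n using WellFoundedLT.induction with
    | ind n ih =>
      intro y hy hn
      letI := TopCat.Presheaf.algebra_section_stalk X.presheaf (⟨y, hy⟩ : U)
      haveI := hU.isLocalization_stalk ⟨y, hy⟩
      set P := (hU.primeIdealOf ⟨y, hy⟩).asIdeal with hP
      haveI : IsNoetherianRing (X.presheaf.stalk y) :=
        IsLocalization.isNoetherianRing P.primeCompl _ inferInstance
      have hlt : ∀ (p : Ideal (X.presheaf.stalk y)) [p.IsPrime], p ≠ maximalIdeal _ →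
          p.comap (algebraMap Γ(X, U) _) < P := by
        intro p _ hp
        refine lt_of_le_of_ne ?_ fun he => hp (eq_of_comap_eq P _ p he)
        rw [← IsLocalization.AtPrime.under_maximalIdeal (X.presheaf.stalk y) P]
        exact Ideal.comap_mono (le_maximalIdeal (Ideal.IsPrime.ne_top ‹_›))
      obtain ⟨_, _⟩ := Hensel.exists_strictHenselization (X.presheaf.stalk y)
      refine gu_of_connected (fun p _ hp => ?_) (Hensel.Env (X.presheaf.stalk y)
        (SeparableClosure (ResidueField (X.presheaf.stalk y)))) fun ⟨p, hpP, hp⟩ => ?_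
      · obtain ⟨z, hz, hze⟩ := UnibranchEtale.exists_primeIdealOf_eq hU (p.comap (algebraMap Γ(X, U) _))
        have hh : (hU.primeIdealOf ⟨z, hz⟩).asIdeal.height < n := by
          rw [← hn, hze]
          exact Ideal.height_strict_mono_of_isPrime (hlt p hp)
        have hgu := ((UnibranchEtale.stalk_localization U hU z hz).2).1 (ih _ hh z hz rfl)
        replace hgu := gu_atPrime_congr hze hgu
        haveI := IsLocalization.isLocalization_isLocalization_atPrime_isLocalization P.primeCompl
          (Localization.AtPrime p) p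
        exact (ConsUnibranch.gu_iff_of_isLocalization (p.comap (algebraMap Γ(X, U) _))
          (Localization.AtPrime (p.comap (algebraMap Γ(X, U) _))) (Localization.AtPrime p)).1 hgu
      · refine h y (fun hc => ?_) _
        haveI := hpP
        obtain ⟨z, hz, hze⟩ := UnibranchEtale.exists_primeIdealOf_eq hU (p.comap (algebraMap Γ(X, U) _))
        have hzy := UnibranchEtale.specializes_of_primeIdealOf_le hU hy hz (hze.le.trans (hlt p hp).le)
        obtain rfl := UnibranchEtale.maximal_of_mem_genericPoints hc z hzy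
        exact (hlt p hp).ne hze.symm

end Scheme

end Groth.Agent.PunctBranch
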